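import Mathlib

universe u

namespace Groth.Agent.H5SymSmooth

open Module

variable {A M : Type u} [CommRing A] [AddCommGroup M] [Module A M]

/-- Formally smooth from projectivity. -/
theorem formallySmooth_of_projective [Module.Projective A M] :
    Algebra.FormallySmooth A (SymmetricAlgebra A M) := by
  apply Algebra.FormallySmooth.of_comp_surjective
  intro B _ _ I _ g
  let l0 : M →ₗ[A] B ⧸ I := g.toLinearMap ∘ₗ SymmetricAlgebra.ι A M
  obtain ⟨l, hl⟩ := Module.projective_lifting_property (Ideal.Quotient.mkₐ A I).toLinearMap l0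
    Ideal.Quotient.mk_surjective
  refine ⟨SymmetricAlgebra.lift l, ?_⟩
  apply SymmetricAlgebra.algHom_ext
  ext m
  have := congrArg (fun f => f m) hl
  simpa [l0] using this

/-- kernel of a retraction from a polynomial algebra is finitely generated. -/
theorem ker_fg_of_section {n : ℕ} {B : Type u} [CommRing B] [Algebra A B]
    (r : MvPolynomial (Fin n) A →ₐ[A] B) (σ : B →ₐ[A] MvPolynomial (Fin n) A)
    (h : r.comp σ = AlgHom.id A B) : (RingHom.ker r.toRingHom).FG := by
  classical
  let K : Ideal (MvPolynomial (Fin n) A) :=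
    Ideal.span (Set.range fun i : Fin n => MvPolynomial.X i - σ (r (MvPolynomial.X i)))
  have hrσ : ∀ b, r (σ b) = b := fun b => congrArg (fun f => f b) h
  have hK : ∀ c : MvPolynomial (Fin n) A, c - σ (r c) ∈ K := by
    intro c
    induction c using MvPolynomial.induction_on with
    | C a =>
      have : σ (r (MvPolynomial.C a)) = MvPolynomial.C a := by
        rw [← MvPolynomial.algebraMap_eq, AlgHom.commutes, AlgHom.commutes]
      rw [this, sub_self]; exact K.zero_mem
    | add p q hp hq =>
      have : p + q - σ (r (p + q)) = (p - σ (r p)) + (q - σ (r q)) := by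
        rw [map_add, map_add]; ring
      rw [this]; exact K.add_mem hp hq
    | mul_X p i hp =>
      have : p * MvPolynomial.X i - σ (r (p * MvPolynomial.X i)) =
          (p - σ (r p)) * MvPolynomial.X i + σ (r p) * (MvPolynomial.X i - σ (r (MvPolynomial.X i))) := by
        rw [map_mul, map_mul]; ring
      rw [this]
      exact K.add_mem (K.mul_mem_right _ hp) (K.mul_mem_left _ (Ideal.subset_span ⟨i, rfl⟩))
  have hker : RingHom.ker r.toRingHom = K := by
    apply le_antisymm
    · intro c hc
      have h0 : r c = 0 := hc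
      have := hK c
      rwa [h0, map_zero, sub_zero] at this
    · rw [Ideal.span_le]
      rintro _ ⟨i, rfl⟩
      show r _ = 0
      rw [map_sub, hrσ, sub_self]
  rw [hker]
  exact ⟨Finset.univ.image fun i : Fin n => MvPolynomial.X i - σ (r (MvPolynomial.X i)), by
    simp [K]⟩

theorem finitePresentation_of_finite_projective [Module.Finite A M] [Module.Projective A M] :
    Algebra.FinitePresentation A (SymmetricAlgebra A M) := by
  classical
  obtain ⟨n, π, hπ⟩ := Module.Finite.exists_fin' A M
  obtain ⟨s, hs⟩ := Module.projective_lifting_property π LinearMap.id hπ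
  let e : SymmetricAlgebra A (Fin n → A) ≃ₐ[A] MvPolynomial (Fin n) A :=
    SymmetricAlgebra.equivMvPolynomial (Pi.basisFun A (Fin n))
  let Sπ : SymmetricAlgebra A (Fin n → A) →ₐ[A] SymmetricAlgebra A M :=
    SymmetricAlgebra.lift (SymmetricAlgebra.ι A M ∘ₗ π)
  let Ss : SymmetricAlgebra A M →ₐ[A] SymmetricAlgebra A (Fin n → A) :=
    SymmetricAlgebra.lift (SymmetricAlgebra.ι A (Fin n → A) ∘ₗ s)
  have hcomp : Sπ.comp Ss = AlgHom.id A _ := by
    apply SymmetricAlgebra.algHom_ext
    ext m
    have : π (s m) = m := congrArg (fun f => f m) hs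
    simp [Sπ, Ss, this]
  let r : MvPolynomial (Fin n) A →ₐ[A] SymmetricAlgebra A M := Sπ.comp e.symm.toAlgHom
  let σ : SymmetricAlgebra A M →ₐ[A] MvPolynomial (Fin n) A := e.toAlgHom.comp Ss
  have hrσ : r.comp σ = AlgHom.id A _ := by
    apply AlgHom.ext
    intro x
    have : Sπ (Ss x) = x := congrArg (fun f => f x) hcomp
    simp [r, σ, this]
  have hsurj : Function.Surjective r := by
    intro x
    exact ⟨σ x, congrArg (fun f => f x) hrσ⟩
  exact Algebra.FinitePresentation.of_surjective hsurj (ker_fg_of_section r σ hrσ)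

end Groth.Agent.H5SymSmooth
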