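import Mathlib
import Groth.Agent.Lib.Helper5.SymSmoothOld.A

universe u

namespace Groth.Agent.H5SymSmooth

open Module

section tsze

variable {A F : Type*} [CommRing A] [AddCommGroup F] [Module A F] [Module Aᵐᵒᵖ F]
  [IsCentralScalar A F]

/-- The ideal `0 ⊕ K` of the trivial square zero extension. -/
def sqZeroIdeal (K : Submodule A F) : Ideal (TrivSqZeroExt A F) where
  carrier := {x | x.fst = 0 ∧ x.snd ∈ K}
  add_mem' := by
    rintro x y ⟨hx1, hx2⟩ ⟨hy1, hy2⟩
    refine ⟨?_, ?_⟩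
    · rw [TrivSqZeroExt.fst_add, hx1, hy1, add_zero]
    · rw [TrivSqZeroExt.snd_add]; exact K.add_mem hx2 hy2
  zero_mem' := ⟨TrivSqZeroExt.fst_zero, by rw [TrivSqZeroExt.snd_zero]; exact K.zero_mem⟩
  smul_mem' := by
    rintro c x ⟨hx1, hx2⟩
    refine ⟨?_, ?_⟩
    · rw [smul_eq_mul, TrivSqZeroExt.fst_mul, hx1, mul_zero]
    · rw [smul_eq_mul, TrivSqZeroExt.snd_mul, hx1, MulOpposite.op_zero, zero_smul, add_zero]
      exact K.smul_mem _ hx2

theorem mem_sqZeroIdeal (K : Submodule A F) (x : TrivSqZeroExt A F) :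
    x ∈ sqZeroIdeal K ↔ x.fst = 0 ∧ x.snd ∈ K := Iff.rfl

theorem sqZeroIdeal_sq (K : Submodule A F) : sqZeroIdeal K ^ 2 = ⊥ := by
  rw [eq_bot_iff, pow_two, Ideal.mul_le]
  rintro x ⟨hx1, hx2⟩ y ⟨hy1, hy2⟩
  rw [Ideal.mem_bot]
  apply TrivSqZeroExt.ext
  · rw [TrivSqZeroExt.fst_mul, hx1, zero_mul, TrivSqZeroExt.fst_zero]
  · rw [TrivSqZeroExt.snd_mul, hx1, hy1, zero_smul, MulOpposite.op_zero, zero_smul, add_zero,
      TrivSqZeroExt.snd_zero]

end tsze

variable {A M : Type u} [CommRing A] [AddCommGroup M] [Module A M]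

theorem projective_of_formallySmooth [Algebra.FormallySmooth A (SymmetricAlgebra A M)] :
    Module.Projective A M := by
  classical
  let π : (M →₀ A) →ₗ[A] M := Finsupp.linearCombination A id
  have hπ : Function.Surjective π := Finsupp.linearCombination_id_surjective A M
  let I : Ideal (TrivSqZeroExt A (M →₀ A)) := sqZeroIdeal (LinearMap.ker π)
  have hI : I ^ 2 = ⊥ := sqZeroIdeal_sq _
  -- the map F → B ⧸ I
  let lam := (Ideal.Quotient.mkₐ A I).toLinearMap ∘ₗ (TrivSqZeroExt.inrHom A (M →₀ A))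
  have hlam : LinearMap.ker π ≤ LinearMap.ker lam := by
    intro k hk
    rw [LinearMap.mem_ker]
    show Ideal.Quotient.mk I (TrivSqZeroExt.inr k) = 0
    rw [Ideal.Quotient.eq_zero_iff_mem]
    exact ⟨TrivSqZeroExt.fst_inr _ _, by rw [TrivSqZeroExt.snd_inr]; exact hk⟩
  let l0 :=
    (Submodule.liftQ (LinearMap.ker π) lam hlam) ∘ₗ (π.quotKerEquivOfSurjective hπ).symm.toLinearMap
  have hl0 : ∀ k : M →₀ A, l0 (π k) = Ideal.Quotient.mk I (TrivSqZeroExt.inr k) := by
    intro k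
    have : (π.quotKerEquivOfSurjective hπ).symm (π k) = Submodule.Quotient.mk k := by
      rw [LinearEquiv.symm_apply_eq]
      simp
    simp only [l0, LinearMap.comp_apply, LinearEquiv.coe_coe, this, Submodule.liftQ_apply]
    rfl
  let g := (SymmetricAlgebra.lift (R := A) (M := M) (A := TrivSqZeroExt A (M →₀ A) ⧸ I)) l0
  obtain ⟨f, hf⟩ := Algebra.FormallySmooth.comp_surjective A (SymmetricAlgebra A M) I hI g
  let s : M →ₗ[A] (M →₀ A) :=
    (TrivSqZeroExt.sndHom A (M →₀ A)) ∘ₗ f.toLinearMap ∘ₗ SymmetricAlgebra.ι A M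
  refine Module.Projective.of_split s π ?_
  ext m
  obtain ⟨k, rfl⟩ := hπ m
  have h1 : Ideal.Quotient.mk I (f (SymmetricAlgebra.ι A M (π k))) =
      Ideal.Quotient.mk I (TrivSqZeroExt.inr k) := by
    have := congrArg (fun h => h (SymmetricAlgebra.ι A M (π k))) hf
    simp only [AlgHom.comp_apply, g, SymmetricAlgebra.lift_ι_apply] at this
    rw [hl0] at this
    exact this
  rw [Ideal.Quotient.eq] at h1
  obtain ⟨-, h2⟩ := h1
  rw [TrivSqZeroExt.snd_sub, TrivSqZeroExt.snd_inr, LinearMap.mem_ker, map_sub, sub_eq_zero] at h2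
  simpa [s] using h2

end Groth.Agent.H5SymSmooth
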