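import Mathlib
import Groth.Agent.Lib.Helper5.SymSmoothOld.A
import Groth.Agent.Lib.Helper5.SymSmoothOld.B

universe u

namespace Groth.Agent.H5SymSmooth

open Module

variable {A M : Type u} [CommRing A] [AddCommGroup M] [Module A M]

theorem exists_finset_mem_adjoin (x : SymmetricAlgebra A M) :
    ∃ T : Finset M, x ∈ Algebra.adjoin A ((SymmetricAlgebra.ι A M) '' (T : Set M)) := by
  classical
  induction x using SymmetricAlgebra.induction with
  | algebraMap r => exact ⟨∅, Subalgebra.algebraMap_mem _ r⟩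
  | ι m => exact ⟨{m}, Algebra.subset_adjoin ⟨m, by simp, rfl⟩⟩
  | mul a b ha hb =>
    obtain ⟨T, hT⟩ := ha
    obtain ⟨T', hT'⟩ := hb
    refine ⟨T ∪ T', Subalgebra.mul_mem _ ?_ ?_⟩
    · exact Algebra.adjoin_mono (Set.image_mono (by simp)) hT
    · exact Algebra.adjoin_mono (Set.image_mono (by simp)) hT'
  | add a b ha hb =>
    obtain ⟨T, hT⟩ := ha
    obtain ⟨T', hT'⟩ := hb
    refine ⟨T ∪ T', Subalgebra.add_mem _ ?_ ?_⟩
    · exact Algebra.adjoin_mono (Set.image_mono (by simp)) hT
    · exact Algebra.adjoin_mono (Set.image_mono (by simp)) hT'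

theorem finite_of_finiteType [Algebra.FiniteType A (SymmetricAlgebra A M)] :
    Module.Finite A M := by
  classical
  obtain ⟨t, ht⟩ := (inferInstance : Algebra.FiniteType A (SymmetricAlgebra A M)).out
  choose Tx hTx using fun x : SymmetricAlgebra A M => exists_finset_mem_adjoin x
  let T : Finset M := t.biUnion Tx
  have hT : Algebra.adjoin A ((SymmetricAlgebra.ι A M) '' (T : Set M)) = ⊤ := by
    rw [eq_top_iff, ← ht]
    apply Algebra.adjoin_le
    intro x hx
    refine Algebra.adjoin_mono (Set.image_mono ?_) (hTx x)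
    intro m hm
    exact Finset.mem_biUnion.2 ⟨x, hx, hm⟩
  let M' : Submodule A M := Submodule.span A (T : Set M)
  letI : Module Aᵐᵒᵖ (M ⧸ M') := Module.compHom (M ⧸ M') ((RingHom.id A).fromOpposite mul_comm)
  haveI : IsCentralScalar A (M ⧸ M') := ⟨fun a n => rfl⟩
  let θ := (SymmetricAlgebra.lift (R := A) (M := M) (A := TrivSqZeroExt A (M ⧸ M')))
    ((TrivSqZeroExt.inrHom A (M ⧸ M')) ∘ₗ M'.mkQ)
  let θ' := (SymmetricAlgebra.lift (R := A) (M := M) (A := TrivSqZeroExt A (M ⧸ M')))
    (0 : M →ₗ[A] TrivSqZeroExt A (M ⧸ M'))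
  have heq : θ = θ' := by
    apply AlgHom.ext_of_adjoin_eq_top hT
    rintro _ ⟨m, hm, rfl⟩
    have hm' : M'.mkQ m = 0 := by
      rw [Submodule.mkQ_apply, Submodule.Quotient.mk_eq_zero]
      exact Submodule.subset_span hm
    simp only [θ, θ', SymmetricAlgebra.lift_ι_apply, LinearMap.comp_apply, hm', map_zero,
      LinearMap.zero_apply]
  have hall : ∀ m : M, m ∈ M' := by
    intro m
    have h1 := congrArg (fun f => f (SymmetricAlgebra.ι A M m)) heq
    simp only [θ, θ', SymmetricAlgebra.lift_ι_apply, LinearMap.comp_apply,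
      LinearMap.zero_apply] at h1
    have h2 : M'.mkQ m = 0 := by
      have := congrArg TrivSqZeroExt.snd h1
      simpa using this
    rwa [Submodule.mkQ_apply, Submodule.Quotient.mk_eq_zero] at h2
  refine ⟨⟨T, ?_⟩⟩
  rw [eq_top_iff]
  intro m _
  exact hall m

theorem main {A M : Type u} [CommRing A] [AddCommGroup M] [Module A M] :
    Algebra.Smooth A (SymmetricAlgebra A M) ↔ Module.Finite A M ∧ Module.Projective A M := by
  constructor
  · intro h
    haveI := h.formallySmooth
    haveI := h.finitePresentation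
    exact ⟨finite_of_finiteType, projective_of_formallySmooth⟩
  · rintro ⟨h1, h2⟩
    exact ⟨formallySmooth_of_projective, finitePresentation_of_finite_projective⟩

end Groth.Agent.H5SymSmooth
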